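import Mathlib
import Groth.Agent.Lib.Helper7.AffinePoints
import Groth.Agent.Lib.lead.ResTrdegBridge

/-!
# Codimension of the preimage of a closed set under a surjective (flat) morphism (helper24)
-/

set_option autoImplicit false
set_option linter.style.haveILetI false
universe u
open AlgebraicGeometry CategoryTheory Groth.Agent.Lib.Helper7 Groth.Agent.Lib.lead

namespace Groth.Agent.Lib.Helper24.CodimPre

/-- Below a prime `P` over `p` there is a prime `Q` over `p` with `ht Q ≤ ht p`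
(a minimal prime of `pB`). -/
theorem exists_prime_height_le {A B : Type u} [CommRing A] [CommRing B] [Algebra A B]
    [IsNoetherianRing A] [IsNoetherianRing B] (p : Ideal A) [p.IsPrime] (P : Ideal B) [P.IsPrime] [P.LiesOver p] :
    ∃ Q : Ideal B, ∃ (_ : Q.IsPrime), Q ≤ P ∧ Q.comap (algebraMap A B) = p ∧
      Q.height ≤ p.height := by
  have hle : p.map (algebraMap A B) ≤ P := by
    rw [Ideal.map_le_iff_le_comap]
    exact (P.over_def p).le
  obtain ⟨Q, hQmin, hQP⟩ := Ideal.exists_minimalPrimes_le hle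
  haveI : Q.IsPrime := hQmin.1.1
  have hover : Q.comap (algebraMap A B) = p := by
    apply le_antisymm
    · calc Q.comap (algebraMap A B) ≤ P.comap (algebraMap A B) := Ideal.comap_mono hQP
        _ = p := (P.over_def p).symm
    · exact Ideal.map_le_iff_le_comap.mp hQmin.1.2
  haveI : Q.LiesOver p := ⟨hover.symm⟩
  refine ⟨Q, inferInstance, hQP, hover, ?_⟩
  have h1 := Ideal.height_le_height_add_of_liesOver p Q
  have h2 : (Q.map (Ideal.Quotient.mk (p.map (algebraMap A B)))).height = 0 := by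
    haveI : (Q.map (Ideal.Quotient.mk (p.map (algebraMap A B)))).IsPrime :=
      Ideal.map_isPrime_of_surjective Ideal.Quotient.mk_surjective
        (by rw [Ideal.mk_ker]; exact hQmin.1.2)
    rw [Ideal.height_eq_zero_iff]
    have h3 := Ideal.minimalPrimes_map_of_surjective
      (Ideal.Quotient.mk_surjective (I := p.map (algebraMap A B))) (p.map (algebraMap A B))
    rw [Ideal.map_quotient_self, Ideal.mk_ker, sup_idem] at h3
    show _ ∈ (⊥ : Ideal _).minimalPrimes
    rw [h3]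
    exact ⟨Q, hQmin, rfl⟩
  rw [h2, add_zero] at h1
  exact h1

variable {X Y : Scheme.{u}}

theorem exists_chart (f : X ⟶ Y) (x : X) :
    ∃ (V : Y.Opens) (_ : IsAffineOpen V) (U : X.Opens) (_ : IsAffineOpen U)
      (_ : U ≤ f ⁻¹ᵁ V), x ∈ U := by
  obtain ⟨_, ⟨V, hV : IsAffineOpen V, rfl⟩, hfxV, -⟩ :=
    (Y.isBasis_affineOpens).exists_subset_of_mem_open (Set.mem_univ (f x)) isOpen_univ
  obtain ⟨_, ⟨U, hU : IsAffineOpen U, rfl⟩, hxU, hUV⟩ :=
    (X.isBasis_affineOpens).exists_subset_of_mem_open (show x ∈ (f ⁻¹ᵁ V : Set X) from hfxV)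
      (f ⁻¹ᵁ V).isOpen
  exact ⟨V, hV, U, hU, hUV, hxU⟩

theorem stalk_dim_eq_height {U : X.Opens} (hU : IsAffineOpen U) (x : X) (hx : x ∈ U) :
    ringKrullDim (X.presheaf.stalk x) = (hU.primeIdealOf ⟨x, hx⟩).asIdeal.height := by
  letI := TopCat.Presheaf.algebra_section_stalk X.presheaf (⟨x, hx⟩ : U)
  have := hU.isLocalization_stalk ⟨x, hx⟩
  exact IsLocalization.AtPrime.ringKrullDim_eq_height _ (X.presheaf.stalk x)

/-- In every fibre there is a point whose local ring has dimension at most that of the local ring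
of the image point. -/
theorem exists_point (f : X ⟶ Y) [IsLocallyNoetherian X] [IsLocallyNoetherian Y] (x₁ : X) :
    ∃ x : X, f x = f x₁ ∧
      ringKrullDim (X.presheaf.stalk x) ≤ ringKrullDim (Y.presheaf.stalk (f x₁)) := by
  obtain ⟨V, hV, U, hU, e, hxU⟩ := exists_chart f x₁
  letI : Algebra Γ(Y, V) Γ(X, U) := (f.appLE V U e).hom.toAlgebra
  have halg : algebraMap Γ(Y, V) Γ(X, U) = (f.appLE V U e).hom := rfl
  haveI : IsNoetherianRing Γ(X, U) := IsLocallyNoetherian.component_noetherian ⟨U, hU⟩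
  haveI : IsNoetherianRing Γ(Y, V) := IsLocallyNoetherian.component_noetherian ⟨V, hV⟩
  set p : Ideal Γ(Y, V) := (hV.primeIdealOf ⟨f x₁, e hxU⟩).asIdeal with hp
  set P : Ideal Γ(X, U) := (hU.primeIdealOf ⟨x₁, hxU⟩).asIdeal with hP
  haveI : P.LiesOver p := ResTrdegBridge.liesOver_primeIdealOf f x₁ hV hU e hxU (e hxU) halg
  haveI : p.IsPrime := (hV.primeIdealOf ⟨f x₁, e hxU⟩).isPrime
  haveI : P.IsPrime := (hU.primeIdealOf ⟨x₁, hxU⟩).isPrime
  obtain ⟨Q, hQprime, -, hQover, hQht⟩ := exists_prime_height_le p P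
  obtain ⟨z, hz⟩ := AffPts.primeIdealOf_surjective hU ⟨Q, hQprime⟩
  have hfz : f z.1 = f x₁ := by
    have h2 := IsAffineOpen.comap_primeIdealOf_appLE (f := f) (x := z.1) V hV U hU e z.2
    have h3 : hV.primeIdealOf ⟨f z.1, e z.2⟩ = hV.primeIdealOf ⟨f x₁, e hxU⟩ := by
      rw [← h2]
      apply PrimeSpectrum.ext
      show Ideal.comap (f.appLE V U e).hom (hU.primeIdealOf ⟨z.1, z.2⟩).asIdeal = p
      have h4 : hU.primeIdealOf ⟨z.1, z.2⟩ = ⟨Q, hQprime⟩ := hz
      rw [h4, ← halg]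
      exact hQover
    exact congrArg Subtype.val (AffPts.primeIdealOf_injective hV h3)
  refine ⟨z.1, hfz, ?_⟩
  rw [stalk_dim_eq_height hU z.1 z.2, stalk_dim_eq_height hV (f x₁) (e hxU)]
  have h4 : hU.primeIdealOf ⟨z.1, z.2⟩ = ⟨Q, hQprime⟩ := hz
  rw [h4]
  exact_mod_cast hQht

/-- For a flat morphism, local ring dimensions can only go up. -/
theorem stalk_dim_le_of_flat (f : X ⟶ Y) [Flat f] [IsLocallyNoetherian X]
    [IsLocallyNoetherian Y] (x : X) :
    ringKrullDim (Y.presheaf.stalk (f x)) ≤ ringKrullDim (X.presheaf.stalk x) := by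
  obtain ⟨V, hV, U, hU, e, hxU⟩ := exists_chart f x
  letI : Algebra Γ(Y, V) Γ(X, U) := (f.appLE V U e).hom.toAlgebra
  have halg : algebraMap Γ(Y, V) Γ(X, U) = (f.appLE V U e).hom := rfl
  haveI : IsNoetherianRing Γ(X, U) := IsLocallyNoetherian.component_noetherian ⟨U, hU⟩
  haveI : IsNoetherianRing Γ(Y, V) := IsLocallyNoetherian.component_noetherian ⟨V, hV⟩
  haveI : Module.Flat Γ(Y, V) Γ(X, U) := f.flat_appLE hV hU e
  set p : Ideal Γ(Y, V) := (hV.primeIdealOf ⟨f x, e hxU⟩).asIdeal with hp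
  set P : Ideal Γ(X, U) := (hU.primeIdealOf ⟨x, hxU⟩).asIdeal with hP
  haveI : P.LiesOver p := ResTrdegBridge.liesOver_primeIdealOf f x hV hU e hxU (e hxU) halg
  haveI : p.IsPrime := (hV.primeIdealOf ⟨f x, e hxU⟩).isPrime
  haveI : P.IsPrime := (hU.primeIdealOf ⟨x, hxU⟩).isPrime
  rw [stalk_dim_eq_height hU x hxU, stalk_dim_eq_height hV (f x) (e hxU)]
  have h := Ideal.height_eq_height_add_of_liesOver_of_hasGoingDown p P
  have h' : p.height ≤ P.height := by rw [h]; exact le_self_add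
  exact_mod_cast h'

theorem main (f : X ⟶ Y) [IsLocallyNoetherian X]
    [IsLocallyNoetherian Y] (hf : Function.Surjective f.base) (Z : Set Y) (_hZ : IsClosed Z) :
    (⨅ x ∈ f.base ⁻¹' Z, ringKrullDim (X.presheaf.stalk x)) ≤
        ⨅ y ∈ Z, ringKrullDim (Y.presheaf.stalk y) ∧
      (Flat f → (⨅ x ∈ f.base ⁻¹' Z, ringKrullDim (X.presheaf.stalk x)) =
        ⨅ y ∈ Z, ringKrullDim (Y.presheaf.stalk y)) := by
  have part1 : (⨅ x ∈ f.base ⁻¹' Z, ringKrullDim (X.presheaf.stalk x)) ≤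
      ⨅ y ∈ Z, ringKrullDim (Y.presheaf.stalk y) := by
    refine le_iInf₂ fun y hy => ?_
    obtain ⟨x₁, rfl⟩ := hf y
    obtain ⟨x, hfx, hle⟩ := exists_point f x₁
    exact iInf₂_le_of_le x (show x ∈ f.base ⁻¹' Z by rw [Set.mem_preimage, hfx]; exact hy) hle
  refine ⟨part1, fun hflat => le_antisymm part1 ?_⟩
  refine le_iInf₂ fun x hx => ?_
  exact iInf₂_le_of_le (f x) hx (stalk_dim_le_of_flat f x)

end Groth.Agent.Lib.Helper24.CodimPre
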